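import Mathlib
import Groth.Agent.GrInjLib.Pieces

/-! Local cohomology with support in the positive degree ideal vanishes in large degrees (no positivity). -/

set_option autoImplicit false
set_option linter.style.haveILetI false
set_option linter.unusedSectionVars false
universe u

open DirectSum GrInjLib

namespace Groth.Agent.FiltVanLib

variable {R : Type u} [CommRing R] {S : Type u} [SetLike S R] [AddSubgroupClass S R] (ℬ : ℤ → S) [GradedRing ℬ]
  [IsNoetherianRing R] (a : HomogeneousIdeal ℬ)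
  (ha : a.toIdeal = Ideal.span (⋃ n ∈ Set.Ioi (0 : ℤ), (ℬ n : Set R)))

omit [IsNoetherianRing R] in
include ha in
/-- Large degrees lie in powers of the positive ideal. -/
theorem exists_mem_pow (hfg : a.toIdeal.FG) :
    ∃ D : ℕ, ∀ (j : ℕ) (n : ℤ), (D : ℤ) * j < n → ∀ x ∈ ℬ n, x ∈ a.toIdeal ^ j := by
  classical
  obtain ⟨s, hs⟩ := hfg
  let T : Finset ℤ := s.biUnion fun f => DFinsupp.support (decompose ℬ f)
  obtain ⟨D, hD⟩ : ∃ D : ℕ, ∀ g ∈ T, g ≤ (D : ℤ) := ⟨T.sup Int.toNat, fun g hg =>
    (Int.self_le_toNat g).trans (Int.ofNat_le.2 (Finset.le_sup hg))⟩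
  refine ⟨D, fun j => ?_⟩
  induction j with
  | zero => intro n _ x _; rw [pow_zero, Ideal.one_eq_top]; trivial
  | succ j ih =>
    intro n hn x hx
    have hn0 : (0 : ℤ) < n := lt_of_le_of_lt (by positivity) hn
    have hxa : x ∈ a.toIdeal := by
      rw [ha]
      exact Ideal.subset_span (Set.mem_biUnion hn0 hx)
    suffices key : ∀ y ∈ a.toIdeal, (decompose ℬ y n : R) ∈ a.toIdeal ^ (j + 1) by
      have := key x hxa
      rwa [decompose_of_mem_same ℬ hx] at this
    intro y hy
    suffices key' : ∀ c : R, (decompose ℬ (c * y) n : R) ∈ a.toIdeal ^ (j + 1) by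
      simpa using key' 1
    rw [← hs] at hy
    induction hy using Submodule.span_induction with
    | mem f hf =>
      intro c
      rw [← DirectSum.sum_support_decompose ℬ f, Finset.mul_sum, decompose_sum,
        DFinsupp.finsetSum_apply, AddSubmonoidClass.coe_finsetSum]
      refine sum_mem fun g hg => ?_
      have hgD : g ≤ (D : ℤ) := hD g (Finset.mem_biUnion.2 ⟨f, hf, hg⟩)
      have hc := coe_decompose_mul_add_of_right_mem ℬ (a := c) (i := n - g)
        (SetLike.coe_mem (decompose ℬ f g))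
      rw [sub_add_cancel] at hc
      rw [hc, pow_succ]
      refine Ideal.mul_mem_mul (ih (n - g) ?_ _ (SetLike.coe_mem _)) ?_
      · push_cast at hn; linarith
      · exact a.isHomogeneous g (hs.le (Submodule.subset_span hf))
    | zero => intro c; simp
    | add u v _ _ hu hv =>
      intro c
      rw [mul_add, decompose_add, DirectSum.add_apply]
      exact add_mem (hu c) (hv c)
    | smul b u _ hu =>
      intro c
      rw [smul_eq_mul, ← mul_assoc]
      exact hu _

include ha in
/-- A finitely generated torsion module vanishes in large degrees. -/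
theorem torsion_piece_eventually_zero {X : Type u} [AddCommGroup X] [Module R X]
    (𝒳 : ℤ → AddSubgroup X) [Decomposition 𝒳] [SetLike.GradedSMul ℬ 𝒳] [Module.Finite R X]
    (htor : GrLC.gam a.toIdeal X = ⊤) :
    ∃ r : ℤ, ∀ n, r ≤ n → ∀ x ∈ 𝒳 n, x = 0 := by
  classical
  obtain ⟨s, hs⟩ := Module.Finite.fg_top (R := R) (M := X)
  have hk : ∀ x : X, ∃ k, ∀ r ∈ a.toIdeal ^ k, r • x = 0 := fun x => by
    have : x ∈ GrLC.gam a.toIdeal X := by rw [htor]; trivial
    exact this
  choose k hk using hk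
  let T : Finset (Σ _ : X, ℤ) := s.sigma fun x => DFinsupp.support (decompose 𝒳 x)
  let K := T.sup fun t => k (proj 𝒳 t.2 t.1)
  obtain ⟨D, hD⟩ := exists_mem_pow ℬ a ha (IsNoetherian.noetherian _)
  obtain ⟨G, hG⟩ : ∃ G : ℤ, ∀ t ∈ T, t.2 ≤ G := ⟨(T.sup fun t => t.2.toNat : ℕ), fun t ht =>
    (Int.self_le_toNat t.2).trans (Int.ofNat_le.2 (Finset.le_sup (f := fun t => t.2.toNat) ht))⟩
  refine ⟨(D : ℤ) * K + G + 1, fun n hn => ?_⟩
  suffices key : ∀ (x : X), proj 𝒳 n x = 0 by
    intro x hx
    rw [← proj_of_mem 𝒳 hx, key]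
  intro x
  suffices key' : ∀ c : R, proj 𝒳 n (c • x) = 0 by simpa using key' 1
  have hx : x ∈ Submodule.span R (s : Set X) := by rw [hs]; trivial
  induction hx using Submodule.span_induction with
  | mem y hy =>
    intro c
    rw [← DirectSum.sum_support_decompose 𝒳 y, Finset.smul_sum, map_sum]
    refine Finset.sum_eq_zero fun g hg => ?_
    have ht : (⟨y, g⟩ : Σ _ : X, ℤ) ∈ T := Finset.mem_sigma.2 ⟨hy, hg⟩
    have h1 := proj_smul_hom ℬ 𝒳 (SetLike.coe_mem (decompose 𝒳 y g)) c (n - g)
    rw [sub_add_cancel] at h1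
    rw [h1]
    refine hk (proj 𝒳 g y) _ (Ideal.pow_le_pow_right (Finset.le_sup (f := fun t => k (proj 𝒳 t.2 t.1)) ht)
      (hD K (n - g) ?_ _ (SetLike.coe_mem _)))
    have hgG : g ≤ G := hG _ ht
    linarith
  | zero => intro c; simp
  | add u v _ _ hu hv => intro c; rw [smul_add, map_add, hu c, hv c, add_zero]
  | smul b u _ hu => intro c; rw [← mul_smul]; exact hu _

include ha in
/-- Vanishing in large degrees. -/
theorem pieces_vanish (i : ℕ) :
    ∀ (X : GrLC.GMod.{u} ℬ) [Module.Finite R X.carrier] (E : GrLC.StarInjRes ℬ X.gr),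
      ∃ r : ℤ, ∀ n, r ≤ n → E.Hcomp a i n = ⊥ := by
  induction i with
  | zero =>
    intro X _ E
    have hT : (GrLC.gam a.toIdeal X.carrier).IsHomogeneous X.gr := gam_homogeneous X.gr a
    let T := subG ℬ X.gr hT
    haveI : Module.Finite R T.carrier := by
      haveI : IsNoetherian R X.carrier := isNoetherian_of_isNoetherianRing_of_finite R X.carrier
      exact Module.Finite.of_injective (subIncl ℬ X.gr hT) (subIncl_injective ℬ X.gr hT)
    have htor : GrLC.gam a.toIdeal T.carrier = ⊤ := by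
      rw [eq_top_iff]
      intro x _
      obtain ⟨k, hk⟩ := subIncl_mem ℬ X.gr hT x
      exact ⟨k, fun r hr => subIncl_injective ℬ X.gr hT (by rw [map_smul, map_zero, hk r hr])⟩
    obtain ⟨r, hr⟩ := torsion_piece_eventually_zero ℬ a ha T.gr htor
    refine ⟨r, fun n hn => ?_⟩
    · obtain ⟨φ, hφ⟩ := exists_gam_piece_surjective E a n
      refine (Submodule.eq_bot_iff _).2 fun z hz => ?_
      obtain ⟨⟨y, hy1, hy2⟩, hy⟩ := hφ ⟨z, hz⟩
      have h0 : y = 0 := congrArg (subIncl ℬ X.gr hT)
        (hr n hn (⟨y, hy1⟩ : ↥(GrLC.gam a.toIdeal X.carrier)) hy2)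
      have := congrArg Subtype.val hy
      rw [show (⟨y, hy1, hy2⟩ :
        ↥((GrLC.gam a.toIdeal X.carrier).restrictScalars (GrLC.deg0 ℬ) ⊓ GrLC.comp ℬ X.gr n)) = 0
        from Subtype.ext h0, map_zero] at this
      exact this.symm
  | succ i ih =>
    intro X _ E
    haveI : IsNoetherian R X.carrier := isNoetherian_of_isNoetherianRing_of_finite R X.carrier
    -- divide out the torsion
    have hT : (GrLC.gam a.toIdeal X.carrier).IsHomogeneous X.gr := gam_homogeneous X.gr a
    let T := subG ℬ X.gr hT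
    let Y := quotG ℬ X.gr hT
    let π := quotMk ℬ X.gr hT
    haveI : Module.Finite R Y.carrier := Module.Finite.of_surjective π (quotMk_surjective ℬ X.gr hT)
    have hYtor : GrLC.gam a.toIdeal Y.carrier = ⊥ := by
      refine (Submodule.eq_bot_iff _).2 fun y ⟨k, hk⟩ => ?_
      obtain ⟨x, rfl⟩ := quotMk_surjective ℬ X.gr hT y
      obtain ⟨s, hs⟩ : (a.toIdeal ^ k).FG := IsNoetherian.noetherian _
      have hgen : ∀ r ∈ s, ∃ l, ∀ t ∈ a.toIdeal ^ l, t • r • x = 0 := fun r hr => by
        have h0 : π (r • x) = 0 := by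
          rw [map_smul]
          exact hk r (hs.le (Submodule.subset_span hr))
        exact (ker_quotMk ℬ X.gr hT).le (LinearMap.mem_ker.2 h0)
      choose! l hl using hgen
      refine LinearMap.mem_ker.1 ((ker_quotMk ℬ X.gr hT).ge ⟨s.sup l + k, fun r hr => ?_⟩)
      rw [pow_add] at hr
      refine Submodule.mul_induction_on hr (fun t ht u hu => ?_)
        (fun u v hu hv => by rw [add_smul, hu, hv, add_zero])
      rw [← hs] at hu
      suffices key : ∀ t ∈ a.toIdeal ^ s.sup l, (t * u) • x = 0 from key t ht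
      induction hu using Submodule.span_induction with
      | mem w hw =>
        intro t ht
        rw [mul_smul]
        exact hl w hw t (Ideal.pow_le_pow_right (Finset.le_sup hw) ht)
      | zero => intro t _; simp
      | add v w _ _ hv hw => intro t ht; rw [mul_add, add_smul, hv t ht, hw t ht, add_zero]
      | smul c v _ hv =>
        intro t ht
        rw [smul_eq_mul, mul_left_comm, mul_smul, hv t ht, smul_zero]
    obtain ⟨ET⟩ := exists_starInjRes ℬ T.gr
    obtain ⟨EY⟩ := exists_starInjRes ℬ Y.gr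
    have hTvan : ∀ j, Subsingleton (ET.H a (j + 1)) := fun j => by
      obtain ⟨e⟩ := exists_H_equiv_locCoh ET a (j + 1)
      haveI := Groth.Agent.LocCohLib.subsingleton_of_torsion (I := a.toIdeal)
        (ModuleCat.of R T.carrier) (fun x => by
          obtain ⟨k, hk⟩ := subIncl_mem ℬ X.gr hT x
          exact ⟨k, fun r hr => subIncl_injective ℬ X.gr hT (by rw [map_smul, map_zero, hk r hr])⟩) j
      exact e.subsingleton
    have hπdeg : GrLC.IsGrHomDeg X.gr Y.gr π 0 := (isGrHom_iff _ _).1 (quotMk_grHom ℬ X.gr hT)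
    have hidg : GrLC.IsGrHomDeg T.gr X.gr (subIncl ℬ X.gr hT) 0 :=
      (isGrHom_iff _ _).1 (subIncl_grHom ℬ X.gr hT)
    obtain ⟨Li⟩ := exists_lift ET E hidg
    obtain ⟨Lπ⟩ := exists_lift E EY hπdeg
    obtain ⟨-, δ, -, hB, hC, -⟩ := exists_long_exact Li Lπ a hidg (quotMk_grHom ℬ X.gr hT)
      (subIncl_injective ℬ X.gr hT) (fun b => by
        rw [← LinearMap.mem_ker, ker_quotMk, ← LinearMap.mem_range, range_subIncl])
      (quotMk_surjective ℬ X.gr hT)
    have hπinj : Function.Injective (Lπ.mapH a (i + 1)) := by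
      haveI := hTvan i
      rw [← LinearMap.ker_eq_bot, hB (i + 1), LinearMap.range_eq_bot]
      exact LinearMap.ext fun x => by rw [Subsingleton.elim x 0, map_zero, map_zero]
    -- a regular element
    obtain ⟨x, D, hD, hx, hreg⟩ := exists_regular ℬ a hYtor ha
    let f : Y.carrier →ₗ[R] Y.carrier := x • LinearMap.id
    have hf : GrLC.IsGrHomDeg Y.gr Y.gr f (D : ℤ) := fun g y hy => by
      show x • y ∈ Y.gr (g + (D : ℤ))
      rw [add_comm]
      exact smul_mem ℬ Y.gr hx hy
    have hfr : (LinearMap.range f).IsHomogeneous Y.gr := range_homogeneous Y.gr Y.gr hf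
    let Q := quotG ℬ Y.gr hfr
    haveI : Module.Finite R Q.carrier :=
      Module.Finite.of_surjective (quotMk ℬ Y.gr hfr) (quotMk_surjective ℬ Y.gr hfr)
    obtain ⟨EQ⟩ := exists_starInjRes ℬ Q.gr
    let Lf : Lift EY EY f (D : ℤ) :=
      { ψ := fun n => x • LinearMap.id
        deg := fun n g y hy => by
          show x • y ∈ (EY.X n).gr (g + (D : ℤ))
          rw [add_comm]
          exact smul_mem ℬ (EY.X n).gr hx hy
        comm0 := LinearMap.ext fun y => (map_smul EY.ε x y).symm
        comm := fun n => LinearMap.ext fun y => (map_smul (EY.d n) x y).symm }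
    have hLf : ∀ y, Lf.mapH a (i + 1) y = x • y := fun y => by
      obtain ⟨z, rfl⟩ := Submodule.mkQ_surjective _ y
      rfl
    obtain ⟨Lq⟩ := exists_lift EY EQ ((isGrHom_iff _ _).1 (quotMk_grHom ℬ Y.gr hfr))
    obtain ⟨-, δ', hδ', -, -, hA⟩ := exists_long_exact Lf Lq a hf (quotMk_grHom ℬ Y.gr hfr)
      hreg (fun b => by rw [← LinearMap.mem_ker, ker_quotMk]; exact LinearMap.mem_range)
      (quotMk_surjective ℬ Y.gr hfr)
    obtain ⟨r, hr⟩ := ih Q EQ
    have hxinj : ∀ n, r - D ≤ n → ∀ y ∈ EY.Hcomp a (i + 1) n, x • y = 0 → y = 0 := by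
      intro n hn y hy hxy
      obtain ⟨w, hw, rfl⟩ := exists_H_preimage a (δ' i) (hδ' i) (g := n + D)
        (by rwa [add_neg_cancel_right]) ((hA i).le (LinearMap.mem_ker.2 (by rwa [hLf])))
      rw [hr (n + D) (by omega), Submodule.mem_bot] at hw
      rw [hw, map_zero]
    have hvanY : ∀ n, r - D ≤ n → EY.Hcomp a (i + 1) n = ⊥ := by
      intro n hn
      refine (Submodule.eq_bot_iff _).2 fun y hy => ?_
      obtain ⟨z, hz, rfl⟩ := hy
      obtain ⟨k, hk⟩ := z.2.1
      have hxk : x ^ k • EY.toH a (i + 1) z = 0 := by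
        rw [← map_smul, show x ^ k • z = 0 from Subtype.ext (hk _ (Ideal.pow_mem_pow
          (by rw [ha]; exact Ideal.subset_span (Set.mem_biUnion (Set.mem_Ioi.2 (by exact_mod_cast hD)) hx)) k)),
          map_zero]
      have hmem : EY.toH a (i + 1) z ∈ EY.Hcomp a (i + 1) n := ⟨z, hz, rfl⟩
      clear hz hk
      revert hxk hmem
      generalize EY.toH a (i + 1) z = y
      intro hxk hmem
      induction k generalizing y n with
      | zero => simpa using hxk
      | succ k ihk =>
        refine hxinj n hn y hmem (ihk (n + D) (by omega) (x • y) (by rwa [← mul_smul, ← pow_succ]) ?_)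
        have := Lf.mapH_grHomDeg a (i + 1) n y hmem
        rwa [hLf] at this
    refine ⟨r - D, fun n hn => (Submodule.eq_bot_iff _).2 fun y hy => ?_⟩
    have h1 := Lπ.mapH_grHomDeg a (i + 1) n y hy
    rw [add_zero] at h1
    have h2 : Lπ.mapH a (i + 1) y = 0 := by
      have : Lπ.mapH a (i + 1) y ∈ EY.Hcomp a (i + 1) n := h1
      rwa [hvanY n hn, Submodule.mem_bot] at this
    exact hπinj (h2.trans (map_zero _).symm)

end Groth.Agent.FiltVanLib
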