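import Mathlib
import Groth.Agent.FiltVanLib.Gen
import Groth.Agent.FiltBlLib.Basic
import Groth.Agent.LocCohLib.BaseChange
import Groth.Agent.LocCohLib.Flasque
import Groth.Agent.LocCohLib.Vanishing
import Groth.Agent.GrFieldLib.Top

/-!
# Vanishing of local cohomology of the associated graded ring and of the base of a filtration
-/

set_option autoImplicit false
set_option linter.style.haveILetI false
set_option linter.unusedSectionVars false
set_option backward.isDefEq.respectTransparency false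
universe u

open LaurentPolynomial FiltBl DirectSum GrInjLib CategoryTheory
open scoped TensorProduct

namespace Groth.Agent.FiltVanLib

variable {A : Type u} [CommRing A] (𝓕 : IdealFiltration A)

/-- The degree `g` piece of the extended Rees algebra. -/
def piece (g : ℤ) : AddSubgroup 𝓕.extRees where
  carrier := {x | ∃ a : A, (x : A[T;T⁻¹]) = C a * T g}
  zero_mem' := ⟨0, by simp⟩
  add_mem' := by
    rintro x y ⟨a, ha⟩ ⟨b, hb⟩
    exact ⟨a + b, by rw [map_add, add_mul, ← ha, ← hb]; rfl⟩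
  neg_mem' := by
    rintro x ⟨a, ha⟩
    exact ⟨-a, by rw [map_neg, neg_mul, ← ha]; rfl⟩

/-- The projection. -/
noncomputable def proj' (g : ℤ) : 𝓕.extRees →+ 𝓕.extRees where
  toFun f := ⟨C ((f : A[T;T⁻¹]).coeff g) * T g, FiltBlLib.C_mul_T_mem 𝓕 (f.2 g)⟩
  map_zero' := Subtype.ext (by simp)
  map_add' x y := Subtype.ext (by simp [AddMonoidAlgebra.coeff_add, add_mul])

theorem piece_isInternal : DirectSum.IsInternal (piece 𝓕) := by
  classical
  refine isInternal_of_proj (piece 𝓕) (proj' 𝓕) ?_ ?_ ?_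
  · rintro g x ⟨a, ha⟩
    refine Subtype.ext ?_
    show C ((x : A[T;T⁻¹]).coeff g) * T g = (x : A[T;T⁻¹])
    rw [ha]
    congr 2
    rw [← single_eq_C_mul_T, AddMonoidAlgebra.coeff_single, Finsupp.single_eq_same]
  · rintro g h hne x ⟨a, ha⟩
    refine Subtype.ext ?_
    show C ((x : A[T;T⁻¹]).coeff g) * T g = 0
    rw [show (x : A[T;T⁻¹]).coeff g = 0 by
      rw [ha, ← single_eq_C_mul_T, AddMonoidAlgebra.coeff_single, Finsupp.single_eq_of_ne hne.symm]]
    simp
  · intro x
    have : x = ∑ g ∈ (x : A[T;T⁻¹]).coeff.support, proj' 𝓕 g x := Subtype.ext (by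
      rw [AddSubmonoidClass.coe_finsetSum]
      show (x : A[T;T⁻¹]) = ∑ g ∈ (x : A[T;T⁻¹]).coeff.support, C ((x : A[T;T⁻¹]).coeff g) * T g
      conv_lhs => rw [← AddMonoidAlgebra.sum_coeff_single (x : A[T;T⁻¹]), Finsupp.sum]
      exact Finset.sum_congr rfl fun n _ => single_eq_C_mul_T _ _)
    rw [this]
    exact sum_mem fun g _ => AddSubgroup.mem_iSup_of_mem g ⟨_, rfl⟩

instance piece_gradedMonoid : SetLike.GradedMonoid (piece 𝓕) where
  one_mem := ⟨1, by simp⟩
  mul_mem := by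
    rintro i j x y ⟨a, ha⟩ ⟨b, hb⟩
    refine ⟨a * b, ?_⟩
    rw [MulMemClass.coe_mul, ha, hb, map_mul, T_add]
    ring

noncomputable instance gradedRing : GradedRing (piece 𝓕) :=
  { piece_gradedMonoid 𝓕, (piece_isInternal 𝓕).chooseDecomposition with }

/-- The positive degree ideal. -/
noncomputable def posIdeal : Ideal 𝓕.extRees :=
  Ideal.span {x : 𝓕.extRees | ∃ n : ℤ, 0 < n ∧ ∃ a : A, (x : A[T;T⁻¹]) = C a * T n}

theorem posIdeal_eq : posIdeal 𝓕 = Ideal.span (⋃ n ∈ Set.Ioi (0 : ℤ), (piece 𝓕 n : Set 𝓕.extRees)) := by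
  refine congrArg Ideal.span (Set.ext fun x => ?_)
  simp only [Set.mem_setOf_eq, Set.mem_iUnion, Set.mem_Ioi, exists_prop]
  rfl

/-- As a homogeneous ideal. -/
noncomputable def posH : HomogeneousIdeal (piece 𝓕) :=
  ⟨posIdeal 𝓕, Ideal.homogeneous_span _ _ fun _ ⟨n, _, a, ha⟩ => ⟨n, a, ha⟩⟩

theorem quotientRing_subsingleton {R : Type u} [CommRing R] [IsNoetherianRing R] (J K : Ideal R) (q : ℕ)
    (h : Subsingleton (LocCoh.H (J.map (Ideal.Quotient.mk K)) q (R ⧸ K))) :
    Subsingleton ((localCohomology J q).obj (ModuleCat.of R (R ⧸ K)) : Type u) := by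
  obtain ⟨φ, -⟩ := LocCohLib.exists_indep (R := R) (R' := R ⧸ K) J (R ⧸ K) q
  haveI : Subsingleton ((localCohomology (J.map (algebraMap R (R ⧸ K))) q).obj
    (ModuleCat.of (R ⧸ K) (R ⧸ K)) : Type u) := h
  exact φ.symm.toEquiv.subsingleton

theorem subsingleton_H_of_quotient {R : Type u} [CommRing R] [IsNoetherianRing R] (ℬ : ℤ → AddSubgroup R)
    [GradedRing ℬ] (a : HomogeneousIdeal ℬ)
    (ha : a.toIdeal = Ideal.span (⋃ n ∈ Set.Ioi (0 : ℤ), (ℬ n : Set R))) (w : R) (hu : w ∈ ℬ (-1))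
    (hreg : IsSMulRegular R w) (q : ℕ)
    (hquot : Subsingleton ((localCohomology a.toIdeal q).obj (ModuleCat.of R (R ⧸ Ideal.span {w})) : Type u)) :
    Subsingleton ((localCohomology a.toIdeal q).obj (ModuleCat.of R R) : Type u) := by
  let X : GrLC.GMod.{u} ℬ :=
    { carrier := R, gr := ringPieces ℬ, dec := (ring_isInternal ℬ).chooseDecomposition }
  let f : X.carrier →ₗ[R] X.carrier := w • LinearMap.id
  have hf : GrLC.IsGrHomDeg X.gr X.gr f (-1) := fun g y hy => by
    show w • y ∈ X.gr (g + -1)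
    rw [add_comm]
    exact smul_mem ℬ X.gr hu hy
  have hfr : (LinearMap.range f).IsHomogeneous X.gr := range_homogeneous X.gr X.gr hf
  let Q := quotG ℬ X.gr hfr
  haveI : Module.Finite R X.carrier := inferInstanceAs (Module.Finite R R)
  obtain ⟨E⟩ := exists_starInjRes ℬ X.gr
  obtain ⟨EQ⟩ := exists_starInjRes ℬ Q.gr
  have hQ : Subsingleton (EQ.H a q) := by
    obtain ⟨e⟩ := exists_H_equiv_locCoh EQ a q
    let eQ : Q.carrier ≃ₗ[R] R ⧸ Ideal.span {w} := Submodule.quotEquivOfEq _ _ (by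
      ext z
      constructor
      · rintro ⟨c, rfl⟩
        exact Ideal.mem_span_singleton'.2 ⟨c, mul_comm _ _⟩
      · intro hz
        obtain ⟨c, hc⟩ := Ideal.mem_span_singleton'.1 hz
        exact ⟨c, (mul_comm w c).trans hc⟩)
    haveI : Subsingleton ((localCohomology a.toIdeal q).obj (ModuleCat.of R Q.carrier) : Type u) :=
      ((localCohomology a.toIdeal q).mapIso eQ.toModuleIso).toLinearEquiv.toEquiv.subsingleton
    exact e.toEquiv.subsingleton
  let Lf : Lift E E f (-1) :=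
    { ψ := fun n => w • LinearMap.id
      deg := fun n g y hy => by
        show w • y ∈ (E.X n).gr (g + -1)
        rw [add_comm]
        exact smul_mem ℬ (E.X n).gr hu hy
      comm0 := LinearMap.ext fun y => (map_smul E.ε w y).symm
      comm := fun n => LinearMap.ext fun y => (map_smul (E.d n) w y).symm }
  obtain ⟨Lq⟩ := exists_lift E EQ ((isGrHom_iff _ _).1 (quotMk_grHom ℬ X.gr hfr))
  obtain ⟨-, -, -, hB, -, -⟩ := exists_long_exact Lf Lq a hf (quotMk_grHom ℬ X.gr hfr)
    (fun x y h => hreg h)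
    (fun b => by rw [← LinearMap.mem_ker, ker_quotMk]; exact LinearMap.mem_range)
    (quotMk_surjective ℬ X.gr hfr)
  obtain ⟨r, hr⟩ := pieces_vanish ℬ a ha q X E
  have hall : ∀ (k : ℕ), E.Hcomp a q (r - k) = ⊥ := by
    intro k
    induction k with
    | zero => exact hr _ (by simp)
    | succ k ih =>
      refine (Submodule.eq_bot_iff _).2 fun y hy => ?_
      obtain ⟨x, hx, rfl⟩ := exists_H_preimage a (Lf.mapH a q) (Lf.mapH_grHomDeg a q)
        (g := r - k) (by rw [show r - (k : ℤ) + -1 = r - ((k + 1 : ℕ) : ℤ) by push_cast; ring]; exact hy)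
        ((hB q).le (LinearMap.mem_ker.2 (Subsingleton.elim _ _)))
      rw [ih, Submodule.mem_bot] at hx
      rw [hx, map_zero]
  have hzero : ∀ g, E.Hcomp a q g = ⊥ := fun g => by
    by_cases hg : r ≤ g
    · exact hr g hg
    · have := hall (r - g).toNat
      rwa [show r - ((r - g).toNat : ℤ) = g by omega] at this
  haveI : Subsingleton (E.H a q) := by
    refine subsingleton_of_forall_eq 0 fun y => ?_
    letI := (H_isInternal E a q).chooseDecomposition
    refine eq_zero_of_proj (E.Hgr a q) y fun g => ?_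
    have hm : proj (E.Hgr a q) g y ∈ E.Hcomp a q g := proj_mem (E.Hgr a q) g y
    rwa [hzero g, Submodule.mem_bot] at hm
  obtain ⟨e⟩ := exists_H_equiv_locCoh E a q
  exact e.symm.toEquiv.subsingleton

theorem subsingleton_H_extRees [IsNoetherianRing A] (hfg : Algebra.FiniteType A 𝓕.rees) (q : ℕ)
    (hG : Subsingleton (LocCoh.H ((posIdeal 𝓕).map (Ideal.Quotient.mk (Ideal.span {𝓕.u}))) q 𝓕.Gr)) :
    Subsingleton (LocCoh.H (posIdeal 𝓕) q 𝓕.extRees) := by
  haveI := FiltBlLib.isNoetherianRing_extRees 𝓕 hfg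
  refine subsingleton_H_of_quotient (piece 𝓕) (posH 𝓕) (posIdeal_eq 𝓕) 𝓕.u ⟨1, by rw [FiltBlLib.val_u, map_one, one_mul]⟩
    (FiltBlLib.u_regular 𝓕) q ?_
  exact quotientRing_subsingleton (posIdeal 𝓕) (Ideal.span {𝓕.u}) q hG

theorem radical_map_posIdeal :
    ((posIdeal 𝓕).map (algebraMap 𝓕.extRees A[T;T⁻¹])).radical = ((𝓕.F 1).map (algebraMap A A[T;T⁻¹])).radical := by
  refine le_antisymm (Ideal.radical_le_radical_iff.2 ?_) (Ideal.radical_mono ?_)
  · rw [Ideal.map_le_iff_le_comap, posIdeal, Ideal.span_le]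
    rintro x ⟨n, hn, a, ha⟩
    refine Ideal.le_radical ?_
    show (x : A[T;T⁻¹]) ∈ _
    rw [ha]
    refine Ideal.mul_mem_right _ _ ?_
    have h1 : a ∈ 𝓕.F 1 := by
      have := x.2 n
      rw [ha, ← single_eq_C_mul_T, AddMonoidAlgebra.coeff_single, Finsupp.single_eq_same] at this
      exact 𝓕.antitone (show 1 ≤ n.toNat by omega) this
    have := Ideal.mem_map_of_mem (algebraMap A A[T;T⁻¹]) h1
    rwa [LaurentPolynomial.algebraMap_apply, Algebra.algebraMap_self, RingHom.id_apply] at this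
  · rw [Ideal.map_le_iff_le_comap]
    intro a ha
    rw [Ideal.mem_comap, LaurentPolynomial.algebraMap_apply, Algebra.algebraMap_self, RingHom.id_apply]
    have h1 : (⟨C a * T 1, FiltBlLib.C_mul_T_mem 𝓕 (by simpa using ha)⟩ : 𝓕.extRees) ∈ posIdeal 𝓕 :=
      Ideal.subset_span ⟨1, one_pos, a, rfl⟩
    have h2 := Ideal.mul_mem_right (T (-1)) _ (Ideal.mem_map_of_mem (algebraMap 𝓕.extRees A[T;T⁻¹]) h1)
    change C a * T 1 * T (-1) ∈ _ at h2
    rwa [mul_T_assoc, show (1 : ℤ) + -1 = 0 by ring, T_zero, mul_one] at h2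

/-- The main statement. -/
theorem subsingleton_H_base [IsNoetherianRing A] (hfg : Algebra.FiniteType A 𝓕.rees) (q : ℕ)
    (hG : Subsingleton (LocCoh.H ((posIdeal 𝓕).map (Ideal.Quotient.mk (Ideal.span {𝓕.u}))) q 𝓕.Gr)) :
    Subsingleton (LocCoh.H (𝓕.F 1) q A) := by
  haveI := FiltBlLib.isNoetherianRing_extRees 𝓕 hfg
  haveI := subsingleton_H_extRees 𝓕 hfg q hG
  let L := A[T;T⁻¹]
  haveI hloc : IsLocalization (Submonoid.powers 𝓕.u) L := FiltBlLib.isLocalization_extRees 𝓕
  haveI : Module.Flat 𝓕.extRees L := IsLocalization.flat L (Submonoid.powers 𝓕.u)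
  haveI : IsNoetherianRing L := IsLocalization.isNoetherianRing (Submonoid.powers 𝓕.u) L inferInstance
  obtain ⟨e1⟩ := LocCohLib.exists_baseChange (B := L) (posIdeal 𝓕) 𝓕.extRees q
  haveI : Subsingleton ((localCohomology ((posIdeal 𝓕).map (algebraMap 𝓕.extRees L)) q).obj
      (ModuleCat.of L L) : Type u) := by
    haveI : Subsingleton (L ⊗[𝓕.extRees] ((localCohomology (posIdeal 𝓕) q).obj (ModuleCat.of 𝓕.extRees 𝓕.extRees) : Type u)) :=
      inferInstance
    haveI := e1.symm.toEquiv.subsingleton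
    exact ((localCohomology _ q).mapIso (TensorProduct.AlgebraTensorModule.rid 𝓕.extRees L L).toModuleIso).symm.toLinearEquiv.toEquiv.subsingleton
  haveI := (LocCohLib.radicalEquiv (radical_map_posIdeal 𝓕).symm q (ModuleCat.of L L)).toEquiv.subsingleton
  haveI : Module.Flat A L := inferInstance
  obtain ⟨e2⟩ := LocCohLib.exists_baseChange (B := L) (𝓕.F 1) A q
  haveI : Subsingleton (L ⊗[A] ((localCohomology (𝓕.F 1) q).obj (ModuleCat.of A A) : Type u)) := by
    haveI := ((localCohomology ((𝓕.F 1).map (algebraMap A L)) q).mapIso (TensorProduct.AlgebraTensorModule.rid A L L).toModuleIso).toLinearEquiv.toEquiv.subsingleton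
    exact e2.toEquiv.subsingleton
  refine subsingleton_of_forall_eq 0 fun z => ?_
  let ε : L →ₗ[A] A :=
    { toFun := fun f => f.coeff 0
      map_add' := fun f g => by rw [AddMonoidAlgebra.coeff_add, Finsupp.add_apply]
      map_smul' := fun c f => by show (c • (f : A[T;T⁻¹])).coeff 0 = c • (f : A[T;T⁻¹]).coeff 0; exact congrArg (fun h => h 0) (AddMonoidAlgebra.coeff_smul c (f : A[T;T⁻¹])) }
  have h := congrArg ((TensorProduct.lid A _).toLinearMap.comp (LinearMap.rTensor _ ε))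
    (Subsingleton.elim ((1 : L) ⊗ₜ[A] z) 0)
  simpa [ε] using h

end Groth.Agent.FiltVanLib
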